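import Cfsg.Agent.Lib.RankOneClosed59.Inner
import Cfsg.Agent.Lib.PGroups.UniqueInvolution
import Cfsg.Agent.Lib.ProductFusion.Main
import Cfsg.Agent.Lib.Transfer.Fusion
import Cfsg.Agent.Lib.ZStar.UniqueCase
import Cfsg.Agent.Lib.Cores.Basic
import Cfsg.Agent.S1250

/-!
# A strongly closed `2`-subgroup with one involution is a Sylow subgroup of its normal closure

With trivial odd core and the involution central.  The cyclic case is an induction by Glauberman's
theorem; in the quaternion case `C_P(S)` is strongly closed, so the product fusion theorem applies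
modulo the involution, and the focal subgroup theorem finishes.
-/

set_option autoImplicit false
set_option linter.style.haveILetI false

universe u

namespace Cfsg.Agent.Lib.RankOneClosed59

open Subgroup Cfsg.Agent.Lib.Involutions
open scoped commutatorElement

variable {G : Type u} [Group G] [Finite G]

/-- A `2`-element fixing `z` only moves nothing after an odd number of steps. -/
theorem comm_of_odd {S E : Subgroup G} {z : G} (hzc : z ∈ Subgroup.center G)
    (huniq : ∀ x ∈ S, orderOf x = 2 → x = z) (h2 : IsPGroup 2 ↥S)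
    (hQ : ∀ u ∈ S ⊓ E, ∀ v ∈ S ⊓ E, u * v = v * u) {b : G} (hodd : Odd (orderOf b))
    (hb : ∀ x ∈ E, b * x * b⁻¹ * x⁻¹ ∈ S ⊓ E) : ∀ x ∈ E, b * x = x * b := by
  have hone : ∀ w ∈ S, w * w = 1 → w = 1 ∨ w = z := fun w hw hww => by
    by_cases h1 : w = 1
    · exact Or.inl h1
    · exact Or.inr (huniq w hw (Basic.invol_iff.2 ⟨hww, h1⟩))
  have hz : ∀ g : G, g * z = z * g := fun g => Subgroup.mem_center_iff.1 hzc g
  obtain ⟨o, ho⟩ := hodd
  have hb1 : b ^ (2 * o + 1) = 1 := ho ▸ pow_orderOf_eq_one b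
  -- `b` fixes `S ∩ E`
  have hfix : ∀ (j : ℕ) (q : G), q ∈ S ⊓ E → q ^ 2 ^ j = 1 → b * q = q * b := by
    intro j
    induction j with
    | zero => intro q _ hq; rw [pow_zero, pow_one] at hq; rw [hq, one_mul, mul_one]
    | succ j ih =>
      intro q hq hj
      have h2' : b * (q * q) = q * q * b := by
        refine ih (q * q) (mul_mem hq hq) ?_
        rw [← pow_two, ← pow_mul, ← pow_succ', hj]
      set w := b * q * b⁻¹ * q⁻¹ with hw
      have hwQ : w ∈ S ⊓ E := hb q hq.2
      have hbq : b * q * b⁻¹ = w * q := by rw [hw]; group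
      have hww : w * w = 1 := by
        have e : w * q * (w * q) = q * q := by
          rw [← hbq]
          calc b * q * b⁻¹ * (b * q * b⁻¹) = b * (q * q) * b⁻¹ := by group
            _ = q * q := by rw [h2', mul_inv_cancel_right]
        have e2 : w * w * (q * q) = 1 * (q * q) := by
          rw [one_mul]
          calc w * w * (q * q) = w * (w * q) * q := by group
            _ = w * (q * w) * q := by rw [hQ w hwQ q hq]
            _ = w * q * (w * q) := by group
            _ = q * q := e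
        exact mul_right_cancel e2
      have hwc : b * w = w * b := by
        rcases hone w hwQ.1 hww with h | h
        · rw [h, one_mul, mul_one]
        · rw [h, hz]
      have hsq : Commute (b * b) q := by
        show b * b * q = q * (b * b)
        calc b * b * q = b * (b * q * b⁻¹) * b := by group
          _ = b * (w * q) * b := by rw [hbq]
          _ = b * w * (q * b) := by group
          _ = w * b * (q * b) := by rw [hwc]
          _ = w * (b * q * b⁻¹) * (b * b) := by group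
          _ = w * (w * q) * (b * b) := by rw [hbq]
          _ = w * w * (q * (b * b)) := by group
          _ = q * (b * b) := by rw [hww, one_mul]
      have hb' : Commute ((b * b) ^ (o + 1)) q := hsq.pow_left _
      have e : (b * b) ^ (o + 1) = b := by
        rw [← pow_two, ← pow_mul, show 2 * (o + 1) = (2 * o + 1) + 1 by ring, pow_succ, hb1, one_mul]
      rwa [e] at hb'
  intro x hx
  set w := b * x * b⁻¹ * x⁻¹ with hw
  have hwQ : w ∈ S ⊓ E := hb x hx
  obtain ⟨j, hj⟩ := IsPGroup.iff_orderOf.1 h2 ⟨w, hwQ.1⟩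
  rw [Subgroup.orderOf_mk] at hj
  have hwc : b * w = w * b := hfix j w hwQ (hj ▸ pow_orderOf_eq_one w)
  have hpow : ∀ l : ℕ, b ^ l * x * (b ^ l)⁻¹ = w ^ l * x := by
    intro l
    induction l with
    | zero => simp
    | succ l ih =>
      have hcl : b * w ^ l = w ^ l * b := ((show Commute b w from hwc).pow_right l).eq
      calc b ^ (l + 1) * x * (b ^ (l + 1))⁻¹ = b * (b ^ l * x * (b ^ l)⁻¹) * b⁻¹ := by
            rw [pow_succ']; group
        _ = b * w ^ l * x * b⁻¹ := by rw [ih]; group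
        _ = w ^ l * (b * x * b⁻¹) := by rw [hcl]; group
        _ = w ^ (l + 1) * x := by rw [pow_succ, hw]; group
  have h1 := hpow (2 * o + 1)
  rw [hb1, one_mul, inv_one, mul_one] at h1
  have hwo : w ^ (2 * o + 1) = 1 := mul_eq_right.1 h1.symm
  have hw1 : w = 1 := by
    rw [← orderOf_eq_one_iff, hj]
    rcases j with _ | j
    · rfl
    · exfalso
      have h3 := orderOf_dvd_of_pow_eq_one hwo
      rw [hj, pow_succ'] at h3
      exact Nat.not_even_iff_odd.2 ⟨o, rfl⟩ (even_iff_two_dvd.2 ((dvd_mul_right 2 _).trans h3))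
  rw [hw, mul_inv_eq_one, mul_inv_eq_iff_eq_mul] at hw1
  exact hw1

variable (P : Sylow 2 G) {S : Subgroup G} {z : G}

/-- `C_P(S)` is strongly closed. -/
theorem cent_closed (hsc : Cfsg.IsStronglyClosed S (P : Subgroup G)) (hzc : z ∈ Subgroup.center G)
    (huniq : ∀ x ∈ S, orderOf x = 2 → x = z) {m : ℕ} (e : ↥S ≃* QuaternionGroup m) :
    Cfsg.IsStronglyClosed (cent (P : Subgroup G) S) (P : Subgroup G) := by
  haveI : Fact (Nat.Prime 2) := ⟨Nat.prime_two⟩
  refine ⟨inf_le_left, fun x hx g hg => ?_⟩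
  refine fusion_induction P hsc
    (fun x y => x ∈ cent (P : Subgroup G) S → y ∈ cent (P : Subgroup G) S)
    (fun _ _ _ h1 h2 h => h2 (h1 h)) ?_ ?_ hx.1 hg hx
  · intro n hn x _ hnx hxR
    refine mem_inf.2 ⟨hnx, mem_centralizer_iff.2 fun q hq => ?_⟩
    have h1 := mem_centralizer_iff.1 hxR.2 _ ((mem_normalizer_iff.1 (inv_mem hn) q).1 hq)
    calc q * (n * x * n⁻¹) = n * (n⁻¹ * q * n⁻¹⁻¹ * x) * n⁻¹ := by group
      _ = n * (x * (n⁻¹ * q * n⁻¹⁻¹)) * n⁻¹ := by rw [h1]
      _ = n * x * n⁻¹ * q := by group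
  intro E hE hmax m' hm' x hxE hxR
  set q₀ := m' * x * m'⁻¹ * x⁻¹ with hq₀
  have hq₀Q : q₀ ∈ S ⊓ E := comm_mem_of_mov hsc hE hm' hxE
  by_cases hQ : ∀ u ∈ S ⊓ E, ∀ v ∈ S ⊓ E, u * v = v * u
  · -- elements of odd order of `mov S E` centralise `E`
    set M := mov S E with hM
    let K : Subgroup M := (centralizer (E : Set G)).subgroupOf M
    haveI hK : K.Normal := by
      refine ⟨fun c hc d => mem_subgroupOf.2 (mem_centralizer_iff.2 fun y hy => ?_)⟩
      have hy' : (d : G)⁻¹ * y * (d : G)⁻¹⁻¹ ∈ E :=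
        (mem_normalizer_iff.1 (inv_mem (mov_le d.2)) y).1 hy
      have h1 := mem_centralizer_iff.1 (mem_subgroupOf.1 hc) _ hy'
      simp only [coe_mul, InvMemClass.coe_inv]
      calc y * ((d : G) * c * (d : G)⁻¹)
          = (d : G) * ((d : G)⁻¹ * y * (d : G)⁻¹⁻¹ * c) * (d : G)⁻¹ := by group
        _ = (d : G) * ((c : G) * ((d : G)⁻¹ * y * (d : G)⁻¹⁻¹)) * (d : G)⁻¹ := by rw [h1]
        _ = (d : G) * c * (d : G)⁻¹ * y := by group
    have hp : IsPGroup 2 (M ⧸ K) := by
      intro c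
      induction c using QuotientGroup.induction_on with
      | H c =>
        obtain ⟨a, d, hd, had⟩ := Nat.exists_eq_two_pow_mul_odd (orderOf_pos c).ne'
        refine ⟨a, ?_⟩
        rw [← QuotientGroup.mk_pow, QuotientGroup.eq_one_iff]
        have hodd : Odd (orderOf ((c : G) ^ 2 ^ a)) := by
          rw [orderOf_pow' _ (by positivity), Subgroup.orderOf_coe, had,
            Nat.gcd_eq_right (dvd_mul_right _ _), Nat.mul_div_cancel_left _ (by positivity)]
          exact hd
        refine mem_subgroupOf.2 (mem_centralizer_iff.2 fun y hy => ?_)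
        rw [SubgroupClass.coe_pow]
        exact (comm_of_odd hzc huniq (P.2.to_le hsc.1) hQ hodd
          (fun y hy => comm_mem_of_mov hsc hE (pow_mem c.2 _) hy) y hy).symm
    let T : Sylow 2 M := ⟨(P : Subgroup G).subgroupOf M, P.2.comap_subtype, fun {U} hU hle => by
      have h1 : U.map M.subtype = (P : Subgroup G) ⊓ M := by
        refine hmax _ (hU.map _) (map_subtype_le _) fun y hy => ?_
        exact ⟨⟨y, hy.2⟩, hle (mem_subgroupOf.2 hy.1), rfl⟩
      refine le_antisymm (fun y hy => ?_) hle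
      exact mem_subgroupOf.2 (h1.le ⟨y, hy, rfl⟩).1⟩
    have htop : ((T.mapSurjective (QuotientGroup.mk'_surjective K) : Sylow 2 (M ⧸ K)) :
        Subgroup (M ⧸ K)) = ⊤ :=
      ((T.mapSurjective (QuotientGroup.mk'_surjective K)).3
        (hp.to_subgroup ⊤) le_top).symm
    rw [Sylow.coe_mapSurjective] at htop
    obtain ⟨p, hpT, hpe⟩ := (htop ▸ mem_top (QuotientGroup.mk' K ⟨m', hm'⟩) :
      QuotientGroup.mk' K ⟨m', hm'⟩ ∈ (T : Subgroup M).map (QuotientGroup.mk' K))
    have hpc : (p : G)⁻¹ * m' ∈ centralizer (E : Set G) :=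
      mem_subgroupOf.1 (QuotientGroup.eq.1 hpe)
    have hpP : (p : G) ∈ (P : Subgroup G) := mem_subgroupOf.1 hpT
    have e1 : m' * x * m'⁻¹ = (p : G) * x * (p : G)⁻¹ := by
      have h1 := mem_centralizer_iff.1 hpc x hxE
      calc m' * x * m'⁻¹ = (p : G) * ((p : G)⁻¹ * m' * x) * m'⁻¹ := by group
        _ = (p : G) * (x * ((p : G)⁻¹ * m')) * m'⁻¹ := by rw [← h1]
        _ = _ := by group
    rw [e1]
    refine mem_inf.2 ⟨mul_mem (mul_mem hpP hxR.1) (inv_mem hpP), mem_centralizer_iff.2 fun q hq => ?_⟩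
    have h1 := mem_centralizer_iff.1 hxR.2 _
      ((mem_normalizer_iff.1 (inv_mem (le_normalizer_of_closed' hsc hpP)) q).1 hq)
    calc q * ((p : G) * x * (p : G)⁻¹)
        = (p : G) * ((p : G)⁻¹ * q * (p : G)⁻¹⁻¹ * x) * (p : G)⁻¹ := by group
      _ = (p : G) * (x * ((p : G)⁻¹ * q * (p : G)⁻¹⁻¹)) * (p : G)⁻¹ := by rw [h1]
      _ = _ := by group
  · push Not at hQ
    obtain ⟨u, hu, v, hv, huv⟩ := hQ
    -- the quotient commutes with `S ∩ E`
    have hcomm : ∀ q ∈ S ⊓ E, q₀ * q = q * q₀ := by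
      intro q hq
      have hq' : m'⁻¹ * q * m'⁻¹⁻¹ ∈ S ⊓ E :=
        conj_mem_of_closed hsc hE (inv_mem (mov_le hm')) hq
      have h1 := mem_centralizer_iff.1 hxR.2 _ hq'.1
      have h2 := mem_centralizer_iff.1 hxR.2 _ hq.1
      have h3 : q * (m' * x * m'⁻¹) = m' * x * m'⁻¹ * q := by
        calc q * (m' * x * m'⁻¹) = m' * (m'⁻¹ * q * m'⁻¹⁻¹ * x) * m'⁻¹ := by group
          _ = m' * (x * (m'⁻¹ * q * m'⁻¹⁻¹)) * m'⁻¹ := by rw [h1]
          _ = _ := by group
      calc q₀ * q = m' * x * m'⁻¹ * (x⁻¹ * (q * x) * x⁻¹) := by rw [hq₀]; group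
        _ = m' * x * m'⁻¹ * (x⁻¹ * (x * q) * x⁻¹) := by rw [h2]
        _ = m' * x * m'⁻¹ * q * x⁻¹ := by group
        _ = q * (m' * x * m'⁻¹) * x⁻¹ := by rw [h3]
        _ = q * q₀ := by rw [hq₀]; group
    have hsq : q₀ * q₀ = 1 := by
      by_contra h
      exact huv (comm_of_comm e hq₀Q.1 hu.1 hv.1 h (hcomm u hu) (hcomm v hv))
    have hq₀c : q₀ ∈ centralizer (S : Set G) := mem_centralizer_iff.2 fun s _ => by
      by_cases h1 : q₀ = 1
      · rw [h1, one_mul, mul_one]
      · rw [huniq q₀ hq₀Q.1 (Basic.invol_iff.2 ⟨hsq, h1⟩), Subgroup.mem_center_iff.1 hzc]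
    refine mem_inf.2 ⟨hE ((mem_normalizer_iff.1 (mov_le hm') x).1 hxE), ?_⟩
    have e1 : m' * x * m'⁻¹ = q₀ * x := by rw [hq₀]; group
    rw [e1]
    exact mul_mem hq₀c hxR.2

/-- A normal subgroup lies in `S` times the commutator subgroup, when `S` generates it normally. -/
theorem normalClosure_le_sup : normalClosure (S : Set G) ≤ S ⊔ _root_.commutator G := by
  haveI : (S ⊔ _root_.commutator G).Normal := Subgroup.Normal.of_commutator_le G le_sup_right
  exact normalClosure_le_normal fun s hs => mem_sup_left hs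

/-- A group with trivial odd core has trivial odd core modulo a central involution. -/
theorem no_odd_normal (hO : ∀ N : Subgroup G, N.Normal → Odd (Nat.card N) → N = ⊥)
    (hz : orderOf z = 2) [(zpowers z).Normal] (hzc : z ∈ Subgroup.center G) :
    ∀ N : Subgroup (G ⧸ zpowers z), N.Normal → Odd (Nat.card N) → N = ⊥ := by
  intro N hN hodd
  set N' := N.comap (QuotientGroup.mk' (zpowers z)) with hN'
  haveI : N'.Normal := hN.comap _
  have hzN : zpowers z ≤ N' := fun y hy => by
    show QuotientGroup.mk' (zpowers z) y ∈ N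
    rw [QuotientGroup.mk'_apply, (QuotientGroup.eq_one_iff y).2 hy]; exact one_mem _
  set Z : Subgroup N' := (zpowers z).subgroupOf N' with hZ
  have hcardZ : Nat.card Z = 2 := by
    rw [hZ, Nat.card_congr (subgroupOfEquivOfLe hzN).toEquiv, Nat.card_zpowers, hz]
  let f : N' →* N :=
    ((QuotientGroup.mk' (zpowers z)).comp N'.subtype).codRestrict N fun x => x.2
  have hker : f.ker = Z := by
    ext x
    rw [MonoidHom.mem_ker, hZ, mem_subgroupOf, Subtype.ext_iff]
    exact QuotientGroup.eq_one_iff (x : G)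
  have hidx : Z.index = Nat.card N := by
    rw [← hker, Subgroup.index_ker, MonoidHom.range_eq_top.2 ?_, Subgroup.card_top]
    rintro ⟨w, hw⟩
    obtain ⟨g, rfl⟩ := QuotientGroup.mk'_surjective (zpowers z) w
    exact ⟨⟨g, hw⟩, rfl⟩
  have hcop : Nat.Coprime (Nat.card Z) Z.index := by
    rw [hcardZ, hidx]
    exact Nat.coprime_two_left.2 hodd
  haveI : Z.Normal := hker ▸ f.normal_ker
  obtain ⟨K, hK⟩ := exists_right_complement'_of_coprime hcop
  have hKcard : Odd (Nat.card K) := by
    rw [← hK.symm.index_eq_card, hidx]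
    exact hodd
  -- the complement is the set of elements of odd order
  have hmem : ∀ x : N', x ∈ K ↔ Odd (orderOf x) := by
    refine fun x => ⟨fun hx => hKcard.of_dvd_nat (orderOf_dvd_natCard _ hx), fun hx => ?_⟩
    obtain ⟨⟨⟨c, hc⟩, ⟨k, hk⟩⟩, rfl⟩ := hK.2 x
    simp only at hx ⊢
    have hcc : (c : G) ∈ Subgroup.center G := by
      obtain ⟨i, hi⟩ := mem_zpowers_iff.1 (mem_subgroupOf.1 hc)
      rw [← hi]; exact zpow_mem hzc i
    have hcomm : Commute c k := Subtype.ext (Subgroup.mem_center_iff.1 hcc k).symm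
    obtain ⟨i, hi⟩ := hx
    obtain ⟨l, hl⟩ := hKcard
    have h1 : (c * k) ^ ((2 * i + 1) * (2 * l + 1)) = 1 := by
      rw [pow_mul, ← hi, pow_orderOf_eq_one, one_pow]
    have h2 : c ^ ((2 * i + 1) * (2 * l + 1)) = 1 := by
      rw [hcomm.mul_pow, mul_comm (2 * i + 1), pow_mul k, ← hl] at h1
      have hk1 : k ^ Nat.card K = 1 :=
        congrArg Subtype.val (pow_card_eq_one' (x := (⟨k, hk⟩ : K)))
      rw [hk1, one_pow, mul_one] at h1
      simpa only [hl, mul_comm] using h1
    have h3 : orderOf c ∣ 2 := hcardZ ▸ orderOf_dvd_natCard _ hc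
    have h4 := orderOf_dvd_of_pow_eq_one h2
    rcases (Nat.dvd_prime Nat.prime_two).1 h3 with h | h
    · rw [orderOf_eq_one_iff.1 h, one_mul]; exact hk
    · exfalso
      rw [h] at h4
      have : Odd ((2 * i + 1) * (2 * l + 1)) := Odd.mul ⟨i, rfl⟩ ⟨l, rfl⟩
      exact Nat.not_even_iff_odd.2 this (even_iff_two_dvd.2 h4)
  have hKn : (K.map N'.subtype).Normal := by
    refine ⟨?_⟩
    rintro _ ⟨k, hk, rfl⟩ g
    refine ⟨⟨g * k * g⁻¹, (inferInstance : N'.Normal).conj_mem _ k.2 g⟩, (hmem _).2 ?_, rfl⟩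
    rw [← Subgroup.orderOf_coe]
    show Odd (orderOf (g * (k : G) * g⁻¹))
    rw [Basic.orderOf_conj_eq, Subgroup.orderOf_coe]
    exact (hmem k).1 hk
  have hKb := hO _ hKn (by
    rw [Subgroup.card_map_of_injective N'.subtype_injective]; exact hKcard)
  have hK1 : Nat.card K = 1 := by
    rw [← Subgroup.card_map_of_injective N'.subtype_injective, hKb, Subgroup.card_bot]
  refine Subgroup.eq_bot_of_card_eq N ?_
  rw [← hidx, hK.symm.index_eq_card, hK1]

/-- The quaternion case. -/
theorem sylow_quaternion (hO : ∀ N : Subgroup G, N.Normal → Odd (Nat.card N) → N = ⊥)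
    (hsc : Cfsg.IsStronglyClosed S (P : Subgroup G)) (hzS : z ∈ S) (hz : orderOf z = 2)
    (hzc : z ∈ Subgroup.center G) (huniq : ∀ x ∈ S, orderOf x = 2 → x = z) {m k : ℕ} (hk : 1 ≤ k)
    (hm : m = 2 ^ k) (e : ↥S ≃* QuaternionGroup m) :
    (P : Subgroup G) ⊓ normalClosure (S : Set G) ≤ S := by
  classical
  haveI : Fact (Nat.Prime 2) := ⟨Nat.prime_two⟩
  have hSP := hsc.1
  have hm2 : 2 ≤ m := by
    rw [hm]
    calc 2 = 2 ^ 1 := rfl
      _ ≤ 2 ^ k := Nat.pow_le_pow_right (by norm_num) hk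
  set R := cent (P : Subgroup G) S with hR
  set D := inner (P : Subgroup G) S with hD
  have hRsc := cent_closed P hsc hzc huniq e
  -- fusion does not change the class modulo `D`
  have hfoc : (P : Subgroup G) ⊓ _root_.commutator G ≤ D := by
    refine inf_commutator_le P (inner_normal hsc) fun x hx g hg => ?_
    refine fusion_induction P hsc (fun x y => y * x⁻¹ ∈ D) ?_ ?_ ?_ hx hg
    · intro x y w h1 h2
      have := mul_mem h2 h1
      simpa [mul_assoc] using this
    · intro n hn x hx hnx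
      exact div_mem_inner e P.2 hsc hk hm hn hx hnx
    · intro E hE _ m' hm' x hxE
      exact le_inner hSP (comm_mem_of_mov hsc hE hm' hxE).1
  have hPN : (P : Subgroup G) ⊓ normalClosure (S : Set G) ≤ D := by
    rintro x ⟨hxP, hxN⟩
    have h1 := normalClosure_le_sup hxN
    rw [← SetLike.mem_coe, mul_normal] at h1
    obtain ⟨s, hs, c, hc, rfl⟩ := h1
    have hcP : c ∈ (P : Subgroup G) := by simpa using mul_mem (inv_mem (hSP hs)) hxP
    exact mul_mem (le_inner hSP hs) (hfoc ⟨hcP, hc⟩)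
  -- product fusion modulo the involution
  haveI hZn : (zpowers z).Normal := by
    refine ⟨fun y hy g => ?_⟩
    obtain ⟨i, rfl⟩ := mem_zpowers_iff.1 hy
    rw [Subgroup.mem_center_iff.1 (zpow_mem hzc i) g, mul_inv_cancel_right]
    exact zpow_mem (mem_zpowers z) i
  set π := QuotientGroup.mk' (zpowers z) with hπ
  have hZS : zpowers z ≤ S := zpowers_le.2 hzS
  have hSZ : ∀ s ∈ S, s * s = 1 → s ∈ zpowers z := fun s hs hss => by
    by_cases h1 : s = 1
    · rw [h1]; exact one_mem _
    · rw [huniq s hs (Basic.invol_iff.2 ⟨hss, h1⟩)]; exact mem_zpowers z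
  have hsetup : ProductFusion.Setup (P.mapSurjective (QuotientGroup.mk'_surjective (zpowers z)))
      (S.map π) (R.map π) := by
    refine ⟨?_, ?_, ?_, ?_⟩
    · rw [Sylow.coe_mapSurjective]; exact Cfsg.Agent.S1250.result P S hsc _
    · rw [Sylow.coe_mapSurjective]; exact Cfsg.Agent.S1250.result P R hRsc _
    · rintro _ ⟨s, hs, rfl⟩ _ ⟨r, hr, rfl⟩
      rw [← map_mul, ← map_mul, mem_centralizer_iff.1 hr.2 s hs]
    · rw [eq_bot_iff]
      rintro _ ⟨⟨s, hs, rfl⟩, r, hr, hrs⟩
      have h1 : r⁻¹ * s ∈ zpowers z := QuotientGroup.eq.1 hrs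
      have hrS : r ∈ S := by
        have := mul_mem hs (inv_mem (hZS h1))
        simpa [mul_assoc] using this
      have hrc := sq_of_central e hm2 hrS fun u hu => (mem_centralizer_iff.1 hr.2 u hu).symm
      refine mem_bot.2 ((QuotientGroup.eq_one_iff s).2 ?_)
      have := mul_mem (hSZ r hrS hrc) h1
      simpa using this
  have hO' : Cfsg.pPrimeCore 2 (G ⧸ zpowers z) = ⊥ := by
    refine no_odd_normal hO hz hzc _ inferInstance ?_
    exact Nat.coprime_two_right.1 (Cores.pPrimeCore_coprime 2)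
  have hcomm := ProductFusion.commutator_normalClosure_eq_bot hO' hsetup
  have hNR : ∀ n ∈ normalClosure (S : Set G), ∀ r ∈ R, n * r * n⁻¹ * r⁻¹ ∈ zpowers z := by
    intro n hn r hr
    have hn' : π n ∈ normalClosure ((S.map π : Subgroup _) : Set (G ⧸ zpowers z)) := by
      haveI := (normalClosure_normal (s := ((S.map π : Subgroup _) : Set (G ⧸ zpowers z)))).comap π
      exact normalClosure_le_normal (N := (normalClosure
        ((S.map π : Subgroup _) : Set (G ⧸ zpowers z))).comap π)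
        (fun s hs => subset_normalClosure ⟨s, hs, rfl⟩) hn
    have hr' : π r ∈ normalClosure ((R.map π : Subgroup _) : Set (G ⧸ zpowers z)) :=
      subset_normalClosure ⟨r, hr, rfl⟩
    have h1 := commutator_mem_commutator hn' hr'
    rw [hcomm, mem_bot, commutatorElement_def, ← map_inv, ← map_inv, ← map_mul, ← map_mul,
      ← map_mul] at h1
    exact (QuotientGroup.eq_one_iff _).1 h1
  -- inside the normal closure
  set N := normalClosure (S : Set G) with hN
  obtain ⟨P', hP'⟩ := Transfer.Fusion.exists_sylow_map_eq_inf N P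
  have hP'mem : ∀ x : N, x ∈ (P' : Subgroup N) ↔ (x : G) ∈ (P : Subgroup G) := by
    intro x
    constructor
    · intro hx
      exact (hP'.le ⟨x, hx, rfl⟩).2
    · intro hx
      obtain ⟨y, hy, hyx⟩ := hP'.ge (mem_inf.2 ⟨x.2, hx⟩)
      exact Subtype.ext hyx ▸ hy
  have hSN : S ≤ N := le_normalClosure
  set S' : Subgroup N := S.subgroupOf N with hS'
  have hsc' : Cfsg.IsStronglyClosed S' (P' : Subgroup N) :=
    ⟨fun s hs => (hP'mem s).2 (hSP hs), fun s hs g hg => hsc.2 s hs g ((hP'mem _).1 hg)⟩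
  have hfoc' : (P' : Subgroup N) ⊓ _root_.commutator N ≤ S' := by
    refine inf_commutator_le P' (le_normalizer_of_closed' hsc') fun x hx g hg => ?_
    refine fusion_induction P' hsc' (fun x y => y * x⁻¹ ∈ S') ?_ ?_ ?_ hx hg
    · intro x y w h1 h2
      have := mul_mem h2 h1
      simpa [mul_assoc] using this
    · intro n hn x hx _
      have hxD := hPN (mem_inf.2 ⟨(hP'mem x).1 hx, x.2⟩)
      obtain ⟨s, hs, r, hr, hsr⟩ := exists_mul hSP hxD
      show ((n * x * n⁻¹ * x⁻¹ : N) : G) ∈ S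
      simp only [coe_mul, InvMemClass.coe_inv]
      rw [hsr]
      have h1 : (n : G) * s * (n : G)⁻¹ ∈ S :=
        mem_subgroupOf.1 ((mem_normalizer_iff.1 hn ⟨s, hSN hs⟩).1 (mem_subgroupOf.2 hs))
      have h2 := hZS (hNR n n.2 r hr)
      convert mul_mem (mul_mem h1 h2) (inv_mem hs) using 1
      group
    · intro E hE _ m' hm' x hxE
      exact (comm_mem_of_mov hsc' hE hm' hxE).1
  have hgen : ∀ x : N, x ∈ S' ⊔ _root_.commutator N := by
    have hle : N ≤ (S' ⊔ _root_.commutator N).map N.subtype := by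
      show closure (Group.conjugatesOfSet (S : Set G)) ≤ _
      rw [closure_le]
      intro y hy
      obtain ⟨s, hs, hsy⟩ := Group.mem_conjugatesOfSet_iff.1 hy
      obtain ⟨g, rfl⟩ := isConj_iff.1 hsy
      have hyN : g * s * g⁻¹ ∈ N := normalClosure_normal.conj_mem s (hSN hs) g
      have hp : IsPGroup 2 (zpowers (⟨_, hyN⟩ : N)) := by
        obtain ⟨j, hj⟩ := IsPGroup.iff_orderOf.1 P.2 ⟨s, hSP hs⟩
        rw [Subgroup.orderOf_mk] at hj
        exact IsPGroup.of_card (n := j)
          (by rw [Nat.card_zpowers, Subgroup.orderOf_mk, Basic.orderOf_conj_eq, hj])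
      obtain ⟨U, hU⟩ := hp.exists_le_sylow
      obtain ⟨c, hc⟩ := MulAction.exists_smul_eq N U P'
      have h1 : c * ⟨_, hyN⟩ * c⁻¹ ∈ (P' : Subgroup N) := by
        rw [← hc, Sylow.coe_subgroup_smul]
        exact smul_mem_pointwise_smul (a := MulAut.conj c) _ _ (hU (mem_zpowers _))
      have h2 : c * ⟨_, hyN⟩ * c⁻¹ ∈ S' := by
        refine mem_subgroupOf.2 ?_
        have e1 : ((c * ⟨_, hyN⟩ * c⁻¹ : N) : G) = (c : G) * g * s * ((c : G) * g)⁻¹ := by
          simp only [coe_mul, InvMemClass.coe_inv]; group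
        have h3 := (hP'mem _).1 h1
        rw [e1] at h3 ⊢
        exact hsc.2 s hs _ h3
      refine ⟨⟨_, hyN⟩, ?_, rfl⟩
      set y' : N := ⟨_, hyN⟩
      have e2 : y' = c * y' * c⁻¹ * ⁅(c * y' * c⁻¹)⁻¹, c⁻¹⁆ := by rw [commutatorElement_def]; group
      rw [e2]
      exact mul_mem (mem_sup_left h2)
        (mem_sup_right (commutator_mem_commutator (mem_top _) (mem_top _)))
    intro x
    obtain ⟨y, hy, hyx⟩ := hle x.2
    exact Subtype.ext hyx ▸ hy
  rintro x ⟨hxP, hxN⟩
  have h1 := hgen ⟨x, hxN⟩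
  rw [← SetLike.mem_coe, mul_normal] at h1
  obtain ⟨s, hs, c, hc, hsc2⟩ := h1
  have hx' : (⟨x, hxN⟩ : N) ∈ (P' : Subgroup N) := (hP'mem _).2 hxP
  have hcP : c ∈ (P' : Subgroup N) := by
    have := mul_mem (inv_mem (hsc'.1 hs)) (hsc2 ▸ hx')
    simpa using this
  have hcS := hfoc' (mem_inf.2 ⟨hcP, hc⟩)
  have := mem_subgroupOf.1 (hsc2 ▸ mul_mem hs hcS : (⟨x, hxN⟩ : N) ∈ S')
  exact this

omit [Group G] [Finite G] in
/-- A strongly closed `2`-subgroup with a central unique involution, with trivial odd core. -/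
theorem sylow_of_unique : ∀ (G : Type u) [Group G] [Finite G] (P : Sylow 2 G) (S : Subgroup G)
    (z : G), (∀ N : Subgroup G, N.Normal → Odd (Nat.card N) → N = ⊥) →
    Cfsg.IsStronglyClosed S (P : Subgroup G) → z ∈ S → orderOf z = 2 → z ∈ Subgroup.center G →
    (∀ x ∈ S, orderOf x = 2 → x = z) → (P : Subgroup G) ⊓ normalClosure (S : Set G) ≤ S := by
  suffices main : ∀ (n : ℕ) (G : Type u) [Group G] [Finite G] (P : Sylow 2 G) (S : Subgroup G)
      (z : G), Nat.card G = n → (∀ N : Subgroup G, N.Normal → Odd (Nat.card N) → N = ⊥) →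
      Cfsg.IsStronglyClosed S (P : Subgroup G) → z ∈ S → orderOf z = 2 → z ∈ Subgroup.center G →
      (∀ x ∈ S, orderOf x = 2 → x = z) → (P : Subgroup G) ⊓ normalClosure (S : Set G) ≤ S from
    fun G _ _ P S z => main _ G P S z rfl
  intro n
  induction n using Nat.strong_induction_on with
  | _ n ih =>
  intro G _ _ P S z hn hO hsc hzS hz hzc huniq
  classical
  haveI : Fact (Nat.Prime 2) := ⟨Nat.prime_two⟩
  have h2S : IsPGroup 2 S := P.2.to_le hsc.1
  have hu : ∀ x y : S, orderOf x = 2 → orderOf y = 2 → y ∈ zpowers x := by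
    intro x y hx hy
    have h1 := huniq x x.2 (by rw [Subgroup.orderOf_coe, hx])
    have h2 := huniq y y.2 (by rw [Subgroup.orderOf_coe, hy])
    rw [Subtype.ext (h2.trans h1.symm) (a1 := y) (a2 := x)]
    exact mem_zpowers x
  rcases PGroups.isCyclic_or_quaternion (p := 2) h2S hu with hcyc | ⟨-, k, hk, ⟨e⟩⟩
  swap
  · exact sylow_quaternion P hO hsc hzS hz hzc huniq hk rfl e
  haveI hZn : (zpowers z).Normal := by
    refine ⟨fun y hy g => ?_⟩
    obtain ⟨i, rfl⟩ := mem_zpowers_iff.1 hy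
    rw [Subgroup.mem_center_iff.1 (zpow_mem hzc i) g, mul_inv_cancel_right]
    exact zpow_mem (mem_zpowers z) i
  by_cases hSZ : S ≤ zpowers z
  · rintro x ⟨-, hx⟩
    exact zpowers_le.2 hzS (normalClosure_le_normal (N := zpowers z) (fun s hs => hSZ hs) hx)
  set π := QuotientGroup.mk' (zpowers z) with hπ
  set P' := P.mapSurjective (QuotientGroup.mk'_surjective (zpowers z)) with hP'
  have hsc' : Cfsg.IsStronglyClosed (S.map π) (P' : Subgroup (G ⧸ zpowers z)) := by
    rw [hP', Sylow.coe_mapSurjective]; exact Cfsg.Agent.S1250.result P S hsc _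
  haveI := hcyc
  haveI hcyc' : IsCyclic ↥(S.map π) :=
    isCyclic_of_surjective _ (MonoidHom.subgroupMap_surjective π S)
  have hne : Nontrivial ↥(S.map π) := by
    rw [nontrivial_iff_ne_bot, Ne, Subgroup.map_eq_bot_iff, QuotientGroup.ker_mk']
    exact hSZ
  obtain ⟨j, hj0, hj⟩ := ((h2S.map π).nontrivial_iff_card).1 hne
  obtain ⟨⟨w, hw⟩, hwo⟩ := Basic.exists_invol (G := ↥(S.map π))
    (by rw [hj]; exact (Nat.even_pow' hj0.ne').2 even_two)
  rw [Subgroup.orderOf_mk] at hwo
  have hwu : ∀ x ∈ S.map π, orderOf x = 2 → x = w := by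
    intro x hx hxo
    by_contra hxw
    haveI := Fintype.ofFinite ↥(S.map π)
    have hcard := IsCyclic.card_pow_eq_one_le (α := ↥(S.map π)) (n := 2) two_pos
    have hsub : ({1, ⟨x, hx⟩, ⟨w, hw⟩} : Finset ↥(S.map π)) ⊆
        Finset.univ.filter (fun a => a ^ 2 = 1) := by
      intro a ha
      simp only [Finset.mem_insert, Finset.mem_singleton] at ha
      simp only [Finset.mem_filter, Finset.mem_univ, true_and]
      rcases ha with rfl | rfl | rfl
      · exact one_pow _
      · exact Subtype.ext (by rw [SubgroupClass.coe_pow, ← hxo, pow_orderOf_eq_one]; rfl)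
      · exact Subtype.ext (by rw [SubgroupClass.coe_pow, ← hwo, pow_orderOf_eq_one]; rfl)
    have := (Finset.card_le_card hsub).trans hcard
    rw [Finset.card_insert_of_notMem, Finset.card_pair] at this
    · omega
    · exact fun h => hxw (congrArg Subtype.val h)
    · simp only [Finset.mem_insert, Finset.mem_singleton, not_or]
      exact ⟨fun h => Basic.invol_ne_one hxo (congrArg Subtype.val h).symm,
        fun h => Basic.invol_ne_one hwo (congrArg Subtype.val h).symm⟩
  have hO' := no_odd_normal hO hz hzc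
  have hwc : w ∈ Subgroup.center (G ⧸ zpowers z) := by
    obtain ⟨N, hN, hodd, hmem⟩ := ZStar.UniqueCase.zstar P' w hwo (hsc'.1 hw) fun g hg =>
      hwu _ (hsc'.2 w hw g hg) ((Basic.orderOf_conj_eq g w).trans hwo)
    refine Subgroup.mem_center_iff.2 fun g => ?_
    have h1 := hmem g
    rw [hO' N hN hodd, mem_bot, mul_inv_eq_one, mul_inv_eq_iff_eq_mul] at h1
    exact h1.symm
  have hlt : Nat.card (G ⧸ zpowers z) < n := by
    rw [← hn, ← (zpowers z).index_eq_card, ← (zpowers z).card_mul_index, Nat.card_zpowers, hz]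
    have : (zpowers z).index ≠ 0 := FiniteIndex.index_ne_zero
    omega
  have hkey := ih _ hlt (G ⧸ zpowers z) P' (S.map π) w rfl hO' hsc' hw hwo hwc hwu
  rintro x ⟨hxP, hxN⟩
  have hxN' : π x ∈ normalClosure ((S.map π : Subgroup _) : Set (G ⧸ zpowers z)) := by
    haveI := (normalClosure_normal (s := ((S.map π : Subgroup _) : Set (G ⧸ zpowers z)))).comap π
    exact normalClosure_le_normal (N := (normalClosure
      ((S.map π : Subgroup _) : Set (G ⧸ zpowers z))).comap π)
      (fun s hs => subset_normalClosure ⟨s, hs, rfl⟩) hxN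
  have hxP' : π x ∈ (P' : Subgroup (G ⧸ zpowers z)) := by
    rw [hP', Sylow.coe_mapSurjective]; exact ⟨x, hxP, rfl⟩
  obtain ⟨s, hs, hsx⟩ := hkey (mem_inf.2 ⟨hxP', hxN'⟩)
  have := mul_mem hs (zpowers_le.2 hzS (QuotientGroup.eq.1 hsx))
  simpa using this

end Cfsg.Agent.Lib.RankOneClosed59
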