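import Cfsg.Agent.Lib.Fusion.Alperin
import Mathlib.GroupTheory.Focal
import Cfsg.Prelude.Def_TwoFusion

/-!
# Fusion modulo a strongly closed subgroup

For a subgroup `S` strongly closed in the Sylow subgroup `P` every fusion is a product of fusions
by elements of `N(S)` and by elements of `mov S E` for subgroups `E ≤ P`: the normal closure of
`S ∩ N(E)` in `N(E)`, which centralises `E` modulo `S ∩ E`.
-/

set_option autoImplicit false
set_option linter.style.haveILetI false

namespace Cfsg.Agent.Lib.RankOneClosed59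

open Subgroup
open Cfsg.Agent.Lib.Fusion.Alperin

variable {G : Type*} [Group G]

/-- The normal closure of `S ∩ N(E)` in `N(E)`. -/
def mov (S E : Subgroup G) : Subgroup G :=
  closure {y | ∃ m ∈ normalizer (E : Set G), ∃ v ∈ S ⊓ normalizer (E : Set G), m * v * m⁻¹ = y}

theorem mov_le {S E : Subgroup G} : mov S E ≤ normalizer (E : Set G) := by
  refine (closure_le _).2 ?_
  rintro _ ⟨m, hm, v, hv, rfl⟩
  exact mul_mem (mul_mem hm hv.2) (inv_mem hm)

theorem inf_le_mov {S E : Subgroup G} : S ⊓ normalizer (E : Set G) ≤ mov S E := fun v hv =>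
  subset_closure ⟨1, one_mem _, v, hv, by simp⟩

theorem conj_mem_mov {S E : Subgroup G} {m x : G} (hm : m ∈ normalizer (E : Set G))
    (hx : x ∈ mov S E) : m * x * m⁻¹ ∈ mov S E := by
  have hle : mov S E ≤ (mov S E).comap (MulAut.conj m).toMonoidHom := by
    refine (closure_le _).2 ?_
    rintro _ ⟨a, ha, v, hv, rfl⟩
    refine subset_closure ⟨m * a, mul_mem hm ha, v, hv, ?_⟩
    show m * a * v * (m * a)⁻¹ = m * (a * v * a⁻¹) * m⁻¹
    group
  exact hle hx

variable {S P : Subgroup G}

theorem conj_mem_of_closed (hsc : Cfsg.IsStronglyClosed S P) {E : Subgroup G} (hE : E ≤ P)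
    {m : G} (hm : m ∈ normalizer (E : Set G)) {q : G} (hq : q ∈ S ⊓ E) :
    m * q * m⁻¹ ∈ S ⊓ E := by
  have h1 : m * q * m⁻¹ ∈ E := (mem_normalizer_iff.1 hm q).1 hq.2
  exact ⟨hsc.2 q hq.1 m (hE h1), h1⟩

theorem conj_mem_sylow (hsc : Cfsg.IsStronglyClosed S P) {p x : G} (hp : p ∈ P) (hx : x ∈ S) :
    p * x * p⁻¹ ∈ S :=
  hsc.2 x hx p (mul_mem (mul_mem hp (hsc.1 hx)) (inv_mem hp))

/-- `mov S E` moves elements of `E` within their cosets of `S ∩ E`. -/
theorem comm_mem_of_mov (hsc : Cfsg.IsStronglyClosed S P) {E : Subgroup G} (hE : E ≤ P) {m : G}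
    (hm : m ∈ mov S E) {x : G} (hx : x ∈ E) : m * x * m⁻¹ * x⁻¹ ∈ S ⊓ E := by
  have key : ∀ m ∈ mov S E, ∀ x ∈ E, m * x * m⁻¹ * x⁻¹ ∈ S ⊓ E := by
    intro m hm
    induction hm using Subgroup.closure_induction with
    | mem y hy =>
      obtain ⟨a, ha, v, hv, rfl⟩ := hy
      intro x hx
      have hx' : a⁻¹ * x * a ∈ E := by
        simpa using (mem_normalizer_iff.1 (inv_mem ha) x).1 hx
      have h1 : v * (a⁻¹ * x * a) * v⁻¹ * (a⁻¹ * x * a)⁻¹ ∈ S ⊓ E := by
        refine mem_inf.2 ⟨?_, mul_mem ((mem_normalizer_iff.1 hv.2 _).1 hx') (inv_mem hx')⟩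
        have h2 := conj_mem_sylow hsc (hE hx') (inv_mem (show v ∈ S from hv.1))
        have e : v * (a⁻¹ * x * a) * v⁻¹ * (a⁻¹ * x * a)⁻¹ =
            v * (a⁻¹ * x * a * v⁻¹ * (a⁻¹ * x * a)⁻¹) := by group
        rw [e]
        exact mul_mem (show v ∈ S from hv.1) h2
      convert conj_mem_of_closed hsc hE ha h1 using 1
      group
    | one => intro x _; simp
    | mul a b ha _ iha ihb =>
      intro x hx
      have hbx : b * x * b⁻¹ ∈ E := by
        have h := mul_mem (ihb x hx).2 hx
        simpa using h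
      convert mul_mem (iha _ hbx) (ihb x hx) using 1
      group
    | inv a ha iha =>
      intro x hx
      have hax : a⁻¹ * x * a⁻¹⁻¹ ∈ E := (mem_normalizer_iff.1 (inv_mem (mov_le ha)) x).1 hx
      convert inv_mem (iha _ hax) using 1
      group
  exact key m hm x hx

variable [Finite G] {p : ℕ} [Fact p.Prime]

/-- The induction principle for fusion in a Sylow subgroup with a strongly closed subgroup. -/
theorem fusion_induction (P : Sylow p G) (hsc : Cfsg.IsStronglyClosed S (P : Subgroup G))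
    (Φ : G → G → Prop) (trans : ∀ x y w, Φ x y → Φ y w → Φ x w)
    (base : ∀ n ∈ normalizer (S : Set G), ∀ x ∈ (P : Subgroup G),
      n * x * n⁻¹ ∈ (P : Subgroup G) → Φ x (n * x * n⁻¹))
    (step : ∀ E ≤ (P : Subgroup G),
      (∀ U : Subgroup G, IsPGroup p U → U ≤ mov S E → (P : Subgroup G) ⊓ mov S E ≤ U →
        U = (P : Subgroup G) ⊓ mov S E) →
      ∀ m ∈ mov S E, ∀ x ∈ E, Φ x (m * x * m⁻¹))
    {g x : G} (hx : x ∈ (P : Subgroup G)) (hgx : g * x * g⁻¹ ∈ (P : Subgroup G)) :
    Φ x (g * x * g⁻¹) := by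
  classical
  suffices main : ∀ (k : ℕ) (A : Subgroup G) (g : G), A ≤ (P : Subgroup G) →
      conjS g A ≤ (P : Subgroup G) → Nat.card (P : Subgroup G) - Nat.card A = k →
      ∀ x ∈ A, Φ x (g * x * g⁻¹) by
    refine main _ (zpowers x) g (zpowers_le.2 hx) ?_ rfl x (mem_zpowers x)
    rw [conjS, MonoidHom.map_zpowers, zpowers_le]
    exact hgx
  intro k
  induction k using Nat.strong_induction_on with
  | _ k ih =>
  intro A g hA hgA hk
  subst hk
  have hch := alperin P A g hA hgA
  have walk : ∀ (B : Subgroup G) (h : G), FusionChain p (P : Subgroup G) B h →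
      Nat.card A ≤ Nat.card B → ∀ x ∈ B, Φ x (h * x * h⁻¹) := by
    intro B h hc
    induction hc with
    | @comp B g₁ g₂ h₁ h₂ ih₁ ih₂ =>
      intro hcard x hx
      have e : g₂ * g₁ * x * (g₂ * g₁)⁻¹ = g₂ * (g₁ * x * g₁⁻¹) * g₂⁻¹ := by group
      rw [e]
      exact trans _ _ _ (ih₁ hcard x hx)
        (ih₂ (hcard.trans (card_conjS g₁ B).ge) _ (conj_mem_conjS hx))
    | @base B E n hE hBE hn =>
      intro hcard x hx
      have hEP := hE.1
      have hxE : x ∈ E := hBE hx
      have hnxE : n * x * n⁻¹ ∈ E := (mem_normalizer_iff.1 hn x).1 hxE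
      have hle : Nat.card A ≤ Nat.card E := hcard.trans (card_le_of_le hBE)
      -- larger subgroups are covered by induction
      have IH : ∀ (F : Subgroup G) (h : G), F ≤ (P : Subgroup G) → conjS h F ≤ (P : Subgroup G) →
          Nat.card A < Nat.card F → ∀ y ∈ F, Φ y (h * y * h⁻¹) := fun F h hF hhF hlt =>
        ih _ (by have := card_le_of_le hF; omega) F h hF hhF rfl
      set M := normalizer (E : Set G) with hM
      set P0 := (P : Subgroup G) ⊓ mov S E with hP0
      -- the Frattini argument in `N(E)`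
      have hmax : ∀ U : Subgroup G, IsPGroup p U → U ≤ mov S E → P0 ≤ U → U = P0 := by
        intro U hU hUM hPU
        have hUM' : U ≤ M := hUM.trans mov_le
        obtain ⟨a, ha, haU⟩ := exists_conj_le_of_maximal (P.2.to_le inf_le_left) inf_le_right
          hE.2.1 hU hUM'
        have h1 : conjS a U ≤ P0 := by
          refine le_inf (haU.trans inf_le_left) ?_
          rintro _ ⟨y, hy, rfl⟩
          exact conj_mem_mov ha (hUM hy)
        exact (eq_of_le_of_card_ge hPU ((card_conjS a U).ge.trans (card_le_of_le h1))).symm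
      have hnP0 : conjS n P0 ≤ mov S E := by
        rintro _ ⟨y, hy, rfl⟩
        exact conj_mem_mov hn hy.2
      obtain ⟨m, hm, hmP⟩ := exists_conj_le_of_maximal (P.2.to_le inf_le_left) inf_le_right hmax
        ((P.2.to_le inf_le_left).map (MulAut.conj n).toMonoidHom) hnP0
      set n' := m * n with hn'
      have hn'E : n' ∈ M := mul_mem (mov_le hm) hn
      have hn'P0 : n' ∈ normalizer (P0 : Set G) := by
        refine mem_normalizer_of_conjS_eq (eq_of_le_of_card_ge ?_ (card_conjS n' P0).ge)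
        rw [hn', conjS_mul]
        exact hmP
      have hn'xE : n' * x * n'⁻¹ ∈ E := (mem_normalizer_iff.1 hn'E x).1 hxE
      by_cases hP0E : P0 ≤ E
      · -- then `S ≤ E` and `n` normalises `S`
        have hSE : S ≤ E := by
          by_contra hne
          have hSP : (P : Subgroup G) ≤ normalizer (S : Set G) := fun y hy =>
            mem_normalizer_iff.2 fun s => ⟨conj_mem_sylow hsc hy, fun hs => by
              simpa [mul_assoc] using conj_mem_sylow hsc (inv_mem hy) hs⟩
          have hlt : E < S ⊔ E := lt_of_le_of_ne le_sup_right fun e => hne (e ▸ le_sup_left)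
          have hsup : S ⊔ E ≤ (P : Subgroup G) := sup_le hsc.1 hEP
          obtain ⟨w, hw, hwE⟩ := SetLike.exists_of_lt (lt_inf_normalizer (P.2.to_le hsup) hlt)
          obtain ⟨hw1, hw2⟩ := mem_inf.1 hw
          rw [← SetLike.mem_coe, coe_mul_of_right_le_normalizer_left _ _ (hEP.trans hSP)] at hw1
          obtain ⟨s, hs, e, he, rfl⟩ := hw1
          have hsM : s ∈ M := by simpa using mul_mem hw2 (inv_mem (le_normalizer he))
          exact hwE (mul_mem (hP0E (mem_inf.2 ⟨hsc.1 hs, inf_le_mov ⟨hs, hsM⟩⟩)) he)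
        refine base n (mem_normalizer_of_conjS_eq (eq_of_le_of_card_ge ?_ (card_conjS n S).ge)) x
          (hEP hxE) (hEP hnxE)
        rintro _ ⟨s, hs, rfl⟩
        exact hsc.2 s hs n (hEP ((mem_normalizer_iff.1 hn s).1 (hSE hs)))
      · set P1 := E ⊔ P0 with hP1
        have hP1P : P1 ≤ (P : Subgroup G) := sup_le hEP inf_le_left
        have hlt : Nat.card A < Nat.card P1 := by
          refine lt_of_le_of_lt hle (lt_of_le_of_ne (card_le_of_le le_sup_left) fun e => ?_)
          exact hP0E (le_sup_right.trans (eq_of_le_of_card_ge le_sup_left e.ge).ge)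
        have h1 : Φ x (n' * x * n'⁻¹) := by
          refine IH P1 n' hP1P ?_ hlt x (mem_sup_left hxE)
          rw [conjS, hP1, Subgroup.map_sup]
          exact sup_le ((conjS_eq_of_mem_normalizer hn'E).le.trans hEP)
            ((conjS_eq_of_mem_normalizer hn'P0).le.trans inf_le_left)
        have h2 := step E hEP hmax m⁻¹ (inv_mem hm) _ hn'xE
        have e : m⁻¹ * (n' * x * n'⁻¹) * m⁻¹⁻¹ = n * x * n⁻¹ := by rw [hn']; group
        rw [e] at h2
        exact trans _ _ _ h1 h2
  exact walk A g hch le_rfl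

/-- The focal subgroup theorem with a target subgroup. -/
theorem inf_commutator_le (P : Sylow p G) {D : Subgroup G}
    (hDP : (P : Subgroup G) ≤ normalizer (D : Set G))
    (h : ∀ x ∈ (P : Subgroup G), ∀ g : G, g * x * g⁻¹ ∈ (P : Subgroup G) →
      g * x * g⁻¹ * x⁻¹ ∈ D) :
    (P : Subgroup G) ⊓ _root_.commutator G ≤ D := by
  rw [inf_comm, Subgroup.commutator_inf_eq_focalSubgroup, Subgroup.focalSubgroup_def, closure_le]
  rintro _ ⟨hc, x, hx, u, rfl⟩
  rw [commutatorElement_def] at hc ⊢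
  have hux : u * x⁻¹ * u⁻¹ ∈ (P : Subgroup G) := by
    have := mul_mem (inv_mem hx) hc
    convert this using 1
    group
  have h1 := h x⁻¹ (inv_mem hx) u hux
  have h2 := (mem_normalizer_iff.1 (hDP hx) _).1 h1
  have e : x * u * x⁻¹ * u⁻¹ = x * (u * x⁻¹ * u⁻¹ * x⁻¹⁻¹) * x⁻¹ := by group
  rw [e]
  exact h2

end Cfsg.Agent.Lib.RankOneClosed59
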