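import Cfsg.Agent.Lib.PGroups.SLTwoThree
import Mathlib.GroupTheory.SpecificGroups.Quaternion

/-!
# Facts on generalised quaternion groups and their automorphisms
-/

set_option autoImplicit false

namespace Cfsg.Agent.Lib.RankOneClosed59.Quat

open QuaternionGroup

variable {n : ℕ}

/-- Elements centralising one non-central element commute. -/
theorem commute_of_commute {c u v : QuaternionGroup n} (hc : c * c ≠ 1) (hu : c * u = u * c)
    (hv : c * v = v * c) : u * v = v * u := by
  cases c with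
  | a i =>
    rw [a_mul_a, one_def, Ne, QuaternionGroup.a.injEq] at hc
    cases u with
    | xa j =>
      exfalso; apply hc
      rw [a_mul_xa, xa_mul_a, QuaternionGroup.xa.injEq] at hu
      linear_combination -hu
    | a j =>
      cases v with
      | xa l =>
        exfalso; apply hc
        rw [a_mul_xa, xa_mul_a, QuaternionGroup.xa.injEq] at hv
        linear_combination -hv
      | a l => rw [a_mul_a, a_mul_a, add_comm]
  | xa i =>
    cases u with
    | a j =>
      rw [xa_mul_a, a_mul_xa, QuaternionGroup.xa.injEq] at hu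
      cases v with
      | a l => rw [a_mul_a, a_mul_a, add_comm]
      | xa l =>
        rw [a_mul_xa, xa_mul_a, QuaternionGroup.xa.injEq]
        linear_combination -hu
    | xa j =>
      rw [xa_mul_xa, xa_mul_xa, QuaternionGroup.a.injEq] at hu
      cases v with
      | a l =>
        rw [xa_mul_a, a_mul_xa, QuaternionGroup.xa.injEq] at hv
        rw [xa_mul_a, a_mul_xa, QuaternionGroup.xa.injEq]
        linear_combination hv
      | xa l =>
        rw [xa_mul_xa, xa_mul_xa, QuaternionGroup.a.injEq] at hv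
        rw [xa_mul_xa, xa_mul_xa, QuaternionGroup.a.injEq]
        linear_combination hv - hu

theorem two_ne_zero_zmod (hn : 2 ≤ n) : (2 : ZMod (2 * n)) ≠ 0 := by
  intro h
  have h' : ((2 : ℕ) : ZMod (2 * n)) = 0 := by exact_mod_cast h
  rw [ZMod.natCast_eq_zero_iff] at h'
  have := Nat.le_of_dvd (by norm_num) h'
  omega

/-- A central element squares to one. -/
theorem sq_of_central (hn : 2 ≤ n) {c : QuaternionGroup n} (hc : ∀ u, c * u = u * c) :
    c * c = 1 := by
  cases c with
  | a i =>
    have h := hc (xa 0)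
    rw [a_mul_xa, xa_mul_a, QuaternionGroup.xa.injEq] at h
    rw [a_mul_a, one_def, QuaternionGroup.a.injEq]
    linear_combination -h
  | xa i =>
    exfalso
    have h := hc (a 1)
    rw [xa_mul_a, a_mul_xa, QuaternionGroup.xa.injEq] at h
    exact two_ne_zero_zmod hn (by linear_combination h)

/-- The shape of an automorphism when `n ≥ 3`. -/
theorem aut_shape [NeZero n] (hn : 3 ≤ n) (φ : MulAut (QuaternionGroup n)) :
    ∃ k u c : ZMod (2 * n), k = 1 + 2 * c ∧ (∀ i, φ (a i) = a (k * i)) ∧
      ∀ i, φ (xa i) = xa (u + k * i) := by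
  obtain ⟨k, hk⟩ : ∃ k, φ (a 1) = a k := by
    rcases h : φ (a 1) with k | k
    · exact ⟨k, rfl⟩
    · exfalso
      have h1 := φ.orderOf_eq (a 1)
      rw [h, orderOf_xa, orderOf_a_one] at h1
      omega
  have ha : ∀ i, φ (a i) = a (k * i) := by
    intro i
    have hpow : ∀ j : ℕ, (a k : QuaternionGroup n) ^ j = a (k * (j : ZMod (2 * n))) := by
      intro j
      induction j with
      | zero => rw [pow_zero, one_def, Nat.cast_zero, mul_zero]
      | succ j ih => rw [pow_succ, ih, a_mul_a, Nat.cast_succ, mul_add, mul_one]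
    rw [← ZMod.natCast_zmod_val i, ← a_one_pow, map_pow, hk, hpow]
  obtain ⟨u, hu⟩ : ∃ u, φ (xa 0) = xa u := by
    rcases h : φ (xa 0) with u | u
    · exfalso
      have hall : ∀ q, ∃ i, φ q = a i := by
        intro q
        cases q with
        | a i => exact ⟨_, ha i⟩
        | xa i =>
          refine ⟨u + k * i, ?_⟩
          rw [show (xa i : QuaternionGroup n) = xa 0 * a i by rw [xa_mul_a, zero_add], map_mul, h,
            ha, a_mul_a]
      obtain ⟨q, hq⟩ := φ.surjective (xa 0)
      obtain ⟨i, hi⟩ := hall q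
      rw [hq] at hi
      exact absurd hi (by simp)
    · exact ⟨u, rfl⟩
  have hxa : ∀ i, φ (xa i) = xa (u + k * i) := fun i => by
    rw [show (xa i : QuaternionGroup n) = xa 0 * a i by rw [xa_mul_a, zero_add], map_mul, hu, ha,
      xa_mul_a]
  obtain ⟨q, hq⟩ := φ.surjective (a 1)
  cases q with
  | xa i => rw [hxa] at hq; exact absurd hq (by simp)
  | a i =>
    rw [ha, QuaternionGroup.a.injEq] at hq
    -- a unit is odd
    let π : ZMod (2 * n) →+* ZMod 2 := ZMod.castHom (dvd_mul_right 2 n) (ZMod 2)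
    have h2 : π k = 1 := by
      have := congrArg π hq
      rw [map_mul, map_one] at this
      revert this
      generalize π k = x
      generalize π i = y
      revert x y
      decide
    obtain ⟨j, rfl⟩ := ZMod.natCast_zmod_surjective k
    rw [map_natCast] at h2
    have hj : Odd j := ZMod.natCast_eq_one_iff_odd.1 h2
    obtain ⟨c, rfl⟩ := hj
    exact ⟨_, u, (c : ZMod (2 * n)), by push_cast; ring, ha, hxa⟩

/-- For `n ≥ 3` two automorphisms commute up to an inner one. -/
theorem aut_comm [NeZero n] (hn : 3 ≤ n) (φ ψ : MulAut (QuaternionGroup n)) :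
    ∃ s, ∀ q, φ (ψ q) = s * ψ (φ q) * s⁻¹ := by
  obtain ⟨k, u, c, hk, ha, hxa⟩ := aut_shape hn φ
  obtain ⟨l, v, d, hl, hb, hxb⟩ := aut_shape hn ψ
  refine ⟨a (d * u - c * v), fun q => eq_mul_inv_of_mul_eq ?_⟩
  cases q with
  | a i =>
    rw [hb, ha, ha, hb, a_mul_a, a_mul_a]
    congr 1
    ring
  | xa i =>
    rw [hxb, hxa, hxa, hxb, a_mul_xa, xa_mul_a]
    congr 1
    subst hk hl
    ring

set_option synthInstance.maxSize 4000 in
set_option synthInstance.maxHeartbeats 200000 in
set_option maxHeartbeats 2000000 in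
open Cfsg.Agent.Lib.PGroups in
/-- The test behind `eight_inner`. -/
theorem eight_test : ∀ u v : QuaternionGroup 2,
    (∀ x y, quatFun u v (x * y) = quatFun u v x * quatFun u v y) →
    (∀ x, (quatFun u v)^[4] x = x) →
    (¬ ∃ s, ∀ q, quatFun u v q = s * q * s⁻¹) →
    ∀ u' v' : QuaternionGroup 2,
    (∀ x y, quatFun u' v' (x * y) = quatFun u' v' x * quatFun u' v' y) →
    (∀ x, (quatFun u' v')^[4] x = x) →
    (¬ ∃ s, ∀ q, quatFun u' v' q = s * q * s⁻¹) →
    (∀ x, (quatFun u v ∘ quatFun u' v')^[4] x = x) →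
    ∃ s, ∀ q, quatFun u v (quatFun u' v' q) = s * q * s⁻¹ := by
  decide +kernel

open Cfsg.Agent.Lib.PGroups in
/-- Two outer automorphisms of `Q₈` in a common `2`-group differ by an inner one. -/
theorem eight_inner (φ ψ : MulAut (QuaternionGroup 2)) (hφ : φ ^ 4 = 1) (hψ : ψ ^ 4 = 1)
    (hm : (φ * ψ) ^ 4 = 1) (h1 : ¬ ∃ s, ∀ q, φ q = s * q * s⁻¹)
    (h2 : ¬ ∃ s, ∀ q, ψ q = s * q * s⁻¹) : ∃ s, ∀ q, φ (ψ q) = s * q * s⁻¹ := by
  have hf := mulEquiv_eq_quatFun φ
  have hg := mulEquiv_eq_quatFun ψ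
  have it : ∀ (χ : MulAut (QuaternionGroup 2)) (k : ℕ) x, (χ ^ k) x = (⇑χ)^[k] x := by
    intro χ k
    induction k with
    | zero => simp
    | succ k ih => intro x; rw [pow_succ', MulAut.mul_apply, ih, Function.iterate_succ_apply']
  have hc : ⇑(φ * ψ) = ⇑φ ∘ ⇑ψ := rfl
  have h4 : ∀ χ : MulAut (QuaternionGroup 2), χ ^ 4 = 1 → ∀ x, (⇑χ)^[4] x = x := fun χ hχ x => by
    rw [← it, hχ, MulAut.one_apply]
  have a1 := h4 φ hφ
  have a2 := h4 ψ hψ
  have a3 := h4 _ hm
  rw [hc] at a3
  generalize φ (QuaternionGroup.a 1) = u at hf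
  generalize φ (QuaternionGroup.xa 0) = v at hf
  generalize ψ (QuaternionGroup.a 1) = u' at hg
  generalize ψ (QuaternionGroup.xa 0) = v' at hg
  simp only [hf, hg] at a1 a2 a3 h1 h2 ⊢
  exact eight_test _ _ (by rw [← hf]; exact map_mul φ) a1 h1 _ _ (by rw [← hg]; exact map_mul ψ) a2
    h2 a3

open Cfsg.Agent.Lib.PGroups in
/-- The test behind `no_eight`. -/
theorem twelve_test : ∀ u v : QuaternionGroup 2,
    (∀ x y, quatFun u v (x * y) = quatFun u v x * quatFun u v y) →
    Function.Injective (quatFun u v) → ∀ x, (quatFun u v)^[12] x = x := by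
  decide +kernel

open Cfsg.Agent.Lib.PGroups in
/-- The exponent of the automorphism group of `Q₈` divides twelve. -/
theorem pow_twelve (φ : MulAut (QuaternionGroup 2)) : φ ^ 12 = 1 := by
  have hf := mulEquiv_eq_quatFun φ
  refine MulEquiv.ext fun x => ?_
  have hit : ∀ l : ℕ, (φ ^ l) x = (⇑φ)^[l] x := by
    intro l
    induction l with
    | zero => simp
    | succ l ih => rw [pow_succ', MulAut.mul_apply, ih, Function.iterate_succ_apply']
  rw [hit, MulAut.one_apply, hf]
  exact twelve_test _ _ (by rw [← hf]; exact map_mul φ) (hf ▸ φ.injective) x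

end Cfsg.Agent.Lib.RankOneClosed59.Quat
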