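import Cfsg.Agent.Lib.RankOneClosed59.Fusion
import Cfsg.Agent.Lib.RankOneClosed59.Quat
import Cfsg.Agent.Lib.Involutions.Basic

/-!
# A strongly closed quaternion subgroup: elements acting by inner automorphisms

`inner P S` is the part of `P` acting on `S` by inner automorphisms and `cent P S = C_P(S)`.
Fusion does not change the class modulo `inner P S`, and `cent P S` is strongly closed.
-/

set_option autoImplicit false
set_option linter.style.haveILetI false

namespace Cfsg.Agent.Lib.RankOneClosed59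

open Subgroup Cfsg.Agent.Lib.Involutions

variable {G : Type*} [Group G]

/-- `C_P(S)`. -/
def cent (P S : Subgroup G) : Subgroup G := P ⊓ centralizer (S : Set G)

/-- `x` acts on `S` as conjugation by an element of `S`. -/
def InnerOn (S : Subgroup G) (x : G) : Prop :=
  ∃ s ∈ S, ∀ q ∈ S, x * q * x⁻¹ = s * q * s⁻¹

/-- The elements of `P` acting on `S` by inner automorphisms. -/
def inner (P S : Subgroup G) : Subgroup G where
  carrier := {x | x ∈ P ∧ InnerOn S x}
  one_mem' := ⟨one_mem _, 1, one_mem _, fun q _ => by simp⟩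
  mul_mem' := by
    rintro x y ⟨hx, s, hs, hxs⟩ ⟨hy, t, ht, hyt⟩
    refine ⟨mul_mem hx hy, s * t, mul_mem hs ht, fun q hq => ?_⟩
    have h1 := hxs _ (mul_mem (mul_mem ht hq) (inv_mem ht))
    calc x * y * q * (x * y)⁻¹ = x * (y * q * y⁻¹) * x⁻¹ := by group
      _ = x * (t * q * t⁻¹) * x⁻¹ := by rw [hyt q hq]
      _ = s * (t * q * t⁻¹) * s⁻¹ := h1
      _ = s * t * q * (s * t)⁻¹ := by group
  inv_mem' := by
    rintro x ⟨hx, s, hs, hxs⟩
    refine ⟨inv_mem hx, s⁻¹, inv_mem hs, fun q hq => ?_⟩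
    have h1 := hxs _ (mul_mem (mul_mem (inv_mem hs) hq) hs)
    have h2 : x * (s⁻¹ * q * s) * x⁻¹ = q := by rw [h1]; group
    calc x⁻¹ * q * x⁻¹⁻¹ = x⁻¹ * (x * (s⁻¹ * q * s) * x⁻¹) * x⁻¹⁻¹ := by rw [h2]
      _ = s⁻¹ * q * s⁻¹⁻¹ := by group

variable {P S : Subgroup G}

theorem mem_inner {x : G} : x ∈ inner P S ↔ x ∈ P ∧ InnerOn S x := Iff.rfl

theorem le_inner (hSP : S ≤ P) : S ≤ inner P S := fun s hs => ⟨hSP hs, s, hs, fun _ _ => rfl⟩

/-- An element of `inner P S` is a product of an element of `S` and one of `C_P(S)`. -/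
theorem exists_mul (hSP : S ≤ P) {x : G} (hx : x ∈ inner P S) :
    ∃ s ∈ S, ∃ r ∈ cent P S, x = s * r := by
  obtain ⟨hxP, s, hs, hxs⟩ := hx
  refine ⟨s, hs, s⁻¹ * x, mem_inf.2 ⟨mul_mem (inv_mem (hSP hs)) hxP, mem_centralizer_iff.2
    fun q hq => ?_⟩, by group⟩
  have h1 := hxs q hq
  calc q * (s⁻¹ * x) = s⁻¹ * (s * q * s⁻¹) * x := by group
    _ = s⁻¹ * (x * q * x⁻¹) * x := by rw [h1]
    _ = s⁻¹ * x * q := by group

theorem innerOn_conj {n x : G} (hn : n ∈ normalizer (S : Set G)) (hx : InnerOn S x) :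
    InnerOn S (n * x * n⁻¹) := by
  obtain ⟨s, hs, hxs⟩ := hx
  refine ⟨n * s * n⁻¹, (mem_normalizer_iff.1 hn s).1 hs, fun q hq => ?_⟩
  have h1 := hxs _ ((mem_normalizer_iff.1 (inv_mem hn) q).1 hq)
  calc n * x * n⁻¹ * q * (n * x * n⁻¹)⁻¹ = n * (x * (n⁻¹ * q * n⁻¹⁻¹) * x⁻¹) * n⁻¹ := by group
    _ = n * (s * (n⁻¹ * q * n⁻¹⁻¹) * s⁻¹) * n⁻¹ := by rw [h1]
    _ = _ := by group

theorem le_normalizer_of_closed' (hsc : Cfsg.IsStronglyClosed S P) :
    P ≤ normalizer (S : Set G) := fun y hy =>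
  mem_normalizer_iff.2 fun s => ⟨conj_mem_sylow hsc hy, fun hs => by
    simpa [mul_assoc] using conj_mem_sylow hsc (inv_mem hy) hs⟩

theorem inner_normal (hsc : Cfsg.IsStronglyClosed S P) :
    P ≤ normalizer ((inner P S : Subgroup G) : Set G) := by
  intro y hy
  have hf : ∀ y ∈ P, ∀ x ∈ inner P S, y * x * y⁻¹ ∈ inner P S := fun y hy x hx =>
    ⟨mul_mem (mul_mem hy hx.1) (inv_mem hy), innerOn_conj (le_normalizer_of_closed' hsc hy) hx.2⟩
  exact mem_normalizer_iff.2 fun x => ⟨hf y hy x, fun hx => by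
    simpa [mul_assoc] using hf _ (inv_mem hy) _ hx⟩

section

variable {m : ℕ} (e : ↥S ≃* QuaternionGroup m)

include e in
theorem comm_of_comm {c u v : G} (hc : c ∈ S) (hu : u ∈ S) (hv : v ∈ S) (hcc : c * c ≠ 1)
    (hcu : c * u = u * c) (hcv : c * v = v * c) : u * v = v * u := by
  have h := Quat.commute_of_commute (c := e ⟨c, hc⟩) (u := e ⟨u, hu⟩) (v := e ⟨v, hv⟩)
    (fun h => hcc ?_) ?_ ?_
  · rw [← map_mul, ← map_mul] at h
    exact congrArg Subtype.val (e.injective h)
  · rw [← map_mul, ← e.map_one] at h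
    exact congrArg Subtype.val (e.injective h)
  · rw [← map_mul, ← map_mul]; exact congrArg e (Subtype.ext hcu)
  · rw [← map_mul, ← map_mul]; exact congrArg e (Subtype.ext hcv)

include e in
theorem sq_of_central (hm : 2 ≤ m) {c : G} (hc : c ∈ S) (h : ∀ u ∈ S, c * u = u * c) :
    c * c = 1 := by
  have h1 := Quat.sq_of_central (c := e ⟨c, hc⟩) hm fun u => by
    obtain ⟨v, rfl⟩ := e.surjective u
    rw [← map_mul, ← map_mul]
    exact congrArg e (Subtype.ext (h v v.2))
  rw [← map_mul, ← e.map_one] at h1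
  exact congrArg Subtype.val (e.injective h1)

/-- The automorphisms of the quaternion group induced by `N(S)`. -/
noncomputable def act : ↥(normalizer (S : Set G)) →* MulAut (QuaternionGroup m) :=
  (MulAut.congr e).toMonoidHom.comp (Subgroup.normalizerMonoidHom S)

theorem act_apply (n : ↥(normalizer (S : Set G))) (q : S) :
    ((e.symm (act e n (e q)) : S) : G) = (n : G) * q * (n : G)⁻¹ := by
  simp [act]

variable [Finite G]

include e in
/-- Fusion in `N(S)` does not change the class modulo `inner P S`. -/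
theorem div_mem_inner (hP : IsPGroup 2 P) (hsc : Cfsg.IsStronglyClosed S P) {k : ℕ} (hk : 1 ≤ k)
    (hm : m = 2 ^ k) {n x : G} (hn : n ∈ normalizer (S : Set G)) (hx : x ∈ P)
    (hnx : n * x * n⁻¹ ∈ P) : n * x * n⁻¹ * x⁻¹ ∈ inner P S := by
  refine ⟨mul_mem hnx (inv_mem hx), ?_⟩
  have hPN := le_normalizer_of_closed' hsc
  set a : ↥(normalizer (S : Set G)) := ⟨n, hn⟩ with ha
  set b : ↥(normalizer (S : Set G)) := ⟨x, hPN hx⟩ with hb
  set y : ↥(normalizer (S : Set G)) := a * b * a⁻¹ with hy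
  haveI : NeZero m := ⟨by rw [hm]; positivity⟩
  -- an inner action of `g` on the quaternion group
  have back : ∀ g : ↥(normalizer (S : Set G)), (∃ s, ∀ q, act e g q = s * q * s⁻¹) →
      InnerOn S (g : G) := by
    rintro g ⟨s, hs⟩
    refine ⟨e.symm s, (e.symm s).2, fun q hq => ?_⟩
    have h1 : e.symm (act e g (e ⟨q, hq⟩)) = e.symm s * ⟨q, hq⟩ * (e.symm s)⁻¹ := by
      rw [hs, map_mul, map_mul, map_inv, e.symm_apply_apply]
    have h2 := act_apply e g ⟨q, hq⟩
    rw [h1] at h2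
    exact h2.symm
  by_cases h2 : m = 2
  · subst h2
    by_cases hxi : InnerOn S x
    · obtain ⟨-, h3⟩ := mul_mem (show n * x * n⁻¹ ∈ inner P S from ⟨hnx, innerOn_conj hn hxi⟩)
        (inv_mem (show x ∈ inner P S from ⟨hx, hxi⟩))
      exact h3
    have hyi : ¬ InnerOn S (n * x * n⁻¹) := fun h => hxi (by
      simpa [mul_assoc] using innerOn_conj (inv_mem hn) h)
    -- elements of `P` act with order dividing four
    have hpow : ∀ g : ↥(normalizer (S : Set G)), (g : G) ∈ P → act e g ^ 4 = 1 := by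
      intro g hg
      obtain ⟨j, hj⟩ := IsPGroup.iff_orderOf.1 hP ⟨g, hg⟩
      rw [Subgroup.orderOf_mk, Subgroup.orderOf_coe] at hj
      have h12 := orderOf_dvd_of_pow_eq_one (Quat.pow_twelve (act e g))
      have hd1 : orderOf (act e g) ∣ 2 ^ j := hj ▸ orderOf_map_dvd _ g
      obtain ⟨i, -, hi⟩ := (Nat.dvd_prime_pow Nat.prime_two).1 hd1
      rw [hi] at h12
      have hi2 : i ≤ 2 := by
        by_contra hh
        have := (pow_dvd_pow 2 (show 3 ≤ i by omega)).trans h12
        norm_num at this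
      refine orderOf_dvd_iff_pow_eq_one.1 ?_
      rw [hi]
      exact (pow_dvd_pow 2 hi2).trans (by norm_num)
    obtain ⟨s, hs⟩ := Quat.eight_inner (act e y) (act e b⁻¹) (hpow y hnx)
      (hpow b⁻¹ (inv_mem hx)) (by rw [← map_mul]; exact hpow _ (mul_mem hnx (inv_mem hx)))
      (fun h => hyi (back y h)) (fun h => hxi (by
        have h3 := back b⁻¹ h
        have h4 := (inner P S).inv_mem (show x⁻¹ ∈ inner P S from ⟨inv_mem hx, h3⟩)
        rw [inv_inv] at h4
        exact h4.2))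
    exact back (y * b⁻¹) ⟨s, fun q => by rw [map_mul, MulAut.mul_apply]; exact hs q⟩
  · have hm3 : 3 ≤ m := by
      rcases k with _ | _ | k
      · omega
      · exact absurd hm h2
      · rw [hm, pow_succ, pow_succ]
        have := Nat.one_le_two_pow (n := k)
        omega
    obtain ⟨s, hs⟩ := Quat.aut_comm hm3 (act e a) (act e b)
    refine back (y * b⁻¹) ⟨s, fun q => ?_⟩
    rw [hy]
    simp only [map_mul, map_inv, MulAut.mul_apply]
    rw [hs]
    simp

end

end Cfsg.Agent.Lib.RankOneClosed59
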